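import Cfsg.Statements.S1730
import Cfsg.Prelude.Def_Classification2
import Cfsg.Agent.Lib.R3.Sa
import Cfsg.Agent.Lib.Q5H.Pm
import Cfsg.Agent.Lib.T2.JF
import Cfsg.Agent.Lib.Ly.Main
import Cfsg.Agent.S1702
import Cfsg.Agent.S2132

/-! An `E₁₆` in the alternating and sporadic groups of the Gorenstein–Harada list (S1730, see `docs/R3.md`) -/

set_option autoImplicit false
set_option linter.unusedSectionVars false

namespace Cfsg.Lib.R3

variable {G : Type*} [Group G] [Finite G]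

open Subgroup Cfsg.Lib.Q5H Cfsg.Lib.Calc Cfsg.Lib.Grp

theorem sb_map {X Y : Type*} [Group X] [Group Y] {p k : ℕ} (h : ¬ PRankLE p k X) (f : X →* Y)
    (i : Function.Injective f) : ¬ PRankLE p k Y := fun r => h fun A hA hp => by
  rw [← card_map_of_injective i]
  refine r _ inferInstance ?_
  rintro _ ⟨a, ha, rfl⟩
  rw [← map_pow, hp a ha, map_one]

theorem sb_emb {n : ℕ} (h : 8 ≤ n) :
    ∃ f : alternatingGroup (Fin 8) →* alternatingGroup (Fin n), Function.Injective f :=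
  let f := Equiv.Perm.extendDomainHom (Fin.castLEEmb h).toEquivRange
  ⟨(f.comp (alternatingGroup (Fin 8)).subtype).codRestrict _ fun x => (Equiv.Perm.sign_extendDomain _ _).trans x.2,
    fun _ _ e => Subtype.ext (Equiv.Perm.extendDomainHom_injective _ (congrArg Subtype.val e))⟩

/-- An `E₈` of conjugate involutions. -/
def Sb8 (K : Type*) [Group K] : Prop :=
  ∃ a b c : K, ∀ x ∈ [a, b, c, a * b, a * c, b * c, a * b * c], x ≠ 1 ∧ x * x = 1 ∧ IsConj a x

theorem sb8_alt {n : ℕ} (h : 8 ≤ n) : Sb8 (alternatingGroup (Fin n)) := by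
  open Equiv in
  obtain ⟨a, b, c, k⟩ : Sb8 (alternatingGroup (Fin 8)) := by
    let g : alternatingGroup (Fin 8) := ⟨swap 1 5 * swap 1 7 * (swap 1 6 * swap 1 3) * (swap 1 4 * swap 1 2),
      by simp [Perm.mem_alternatingGroup]⟩
    have k : ∀ {a x : alternatingGroup (Fin 8)}, x.1 ≠ 1 ∧ x.1 * x.1 = 1 ∧ (∃ i : Fin 7, g.1 ^ i.1 * a.1 = x.1 * g.1 ^ i.1) →
        x ≠ 1 ∧ x * x = 1 ∧ IsConj a x := fun ⟨h1, h2, i, h3⟩ =>
      ⟨fun e => h1 (congrArg Subtype.val e), Subtype.ext h2,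
        isConj_iff.2 ⟨g ^ i.1, mul_inv_eq_iff_eq_mul.2 (Subtype.ext h3)⟩⟩
    refine ⟨⟨swap 0 1 * swap 2 3 * (swap 4 5 * swap 6 7), by simp [Perm.mem_alternatingGroup]⟩,
      ⟨swap 0 2 * swap 1 3 * (swap 4 6 * swap 5 7), by simp [Perm.mem_alternatingGroup]⟩,
      ⟨swap 0 4 * swap 1 5 * (swap 2 6 * swap 3 7), by simp [Perm.mem_alternatingGroup]⟩, ?_⟩
    simp only [List.forall_mem_cons]
    refine ⟨k ?_, k ?_, k ?_, k ?_, k ?_, k ?_, k ?_, by simp⟩ <;> simp only [coe_mul, g] <;> decide +kernel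
  obtain ⟨f, i⟩ := sb_emb h
  refine ⟨f a, f b, f c, ?_⟩
  simp only [← map_mul, List.forall_mem_cons] at k ⊢
  have t : ∀ {x}, x ≠ 1 ∧ x * x = 1 ∧ IsConj a x → f x ≠ 1 ∧ f (x * x) = 1 ∧ IsConj (f a) (f x) := fun h =>
    ⟨(map_ne_one_iff f i).2 h.1, by rw [h.2.1, map_one], f.map_isConj h.2.2⟩
  exact ⟨t k.1, t k.2.1, t k.2.2.1, t k.2.2.2.1, t k.2.2.2.2.1, t k.2.2.2.2.2.1, t k.2.2.2.2.2.2.1, by simp⟩

/-- The preimage of such an `E₈` in a double cover is an `E₁₆`. -/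
theorem sb_cover {H K : Type*} [Group H] [Group K] (h : IsNonsplitDoubleCover H K) (k : Sb8 K) : ¬ PRankLE 2 3 H := by
  obtain ⟨h2, ⟨e⟩, -⟩ := h
  obtain ⟨⟨z, zc⟩, z1, hz⟩ := (Nat.card_eq_two_iff' (1 : center H)).1 h2
  replace z1 : z ≠ 1 := fun e => z1 (Subtype.ext e)
  let π : H →* K := e.toMonoidHom.comp (QuotientGroup.mk' _)
  have sj : Function.Surjective π := e.surjective.comp (QuotientGroup.mk'_surjective _)
  have ker : ∀ x, π x = 1 → x = 1 ∨ x = z := fun x hx => or_iff_not_imp_left.2 fun n => congrArg Subtype.val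
    (hz ⟨x, (QuotientGroup.eq_one_iff _).1 ((map_eq_one_iff _ e.injective).1 hx)⟩ fun e => n (congrArg Subtype.val e))
  have πz : π z = 1 := (map_eq_one_iff _ e.injective).2 ((QuotientGroup.eq_one_iff _).2 zc)
  have cz := mem_center_iff.1 zc
  have z2 : z * z = 1 := (ker _ (by rw [map_mul, πz, one_mul])).resolve_right fun e => z1 (mul_eq_left.1 e)
  obtain ⟨a, b, c, k⟩ := k
  obtain ⟨a, rfl⟩ := sj a
  obtain ⟨b, rfl⟩ := sj b
  obtain ⟨c, rfl⟩ := sj c
  simp only [← map_mul, List.forall_mem_cons] at k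
  have a2 := ker _ k.1.2.1
  have zz : ∀ x, z * x * (z * x) = x * x := fun x => by
    rw [mul_assoc, ← mul_assoc x, cz x, mul_assoc, ← mul_assoc, z2, one_mul]
  have s : ∀ {x}, π x ≠ 1 ∧ π (x * x) = 1 ∧ IsConj (π a) (π x) → π x ≠ 1 ∧ x * x = a * a := fun {x} h => by
    obtain ⟨g, hg⟩ := isConj_iff.1 h.2.2
    obtain ⟨g, rfl⟩ := sj g
    have e1 : g * a * g⁻¹ * (g * a * g⁻¹) = a * a := by
      rw [conj_mul]
      rcases a2 with e | e <;> rw [e]
      · simp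
      · rw [cz, mul_inv_cancel_right]
    refine ⟨h.1, ?_⟩
    rcases ker (g * a * g⁻¹ * x⁻¹) (by simp only [map_mul, map_inv, hg, mul_inv_cancel]) with e | e
    · rw [← mul_inv_eq_one.1 e, e1]
    · rw [← zz x, ← mul_inv_eq_iff_eq_mul.1 e, e1]
  obtain ⟨k1, k2, k3, k4, k5, k6, k7, -⟩ := k
  replace k1 := s k1
  replace k2 := s k2
  replace k3 := s k3
  replace k4 := s k4
  replace k5 := s k5
  replace k6 := s k6
  replace k7 := s k7
  rcases a2 with a2 | a2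
  · rw [a2] at k2 k3 k4 k5 k6 k7
    replace k1 := And.intro k1.1 a2
    have t : ∀ {x}, π x ≠ 1 ∧ x * x = 1 → x ≠ 1 ∧ x * x = 1 := fun h => ⟨fun e => h.1 (by rw [e, map_one]), h.2⟩
    have u : ∀ {x}, π x ≠ 1 ∧ x * x = 1 → z * x ≠ 1 ∧ z * x * (z * x) = 1 := fun h =>
      t ⟨by rw [map_mul, πz, one_mul]; exact h.1, (zz _).trans h.2⟩
    refine e16l (a := z) (b := a) (c := b) (d := c) ?_
    rw [mul_assoc z a b, mul_assoc z a c, mul_assoc z a (b * c), ← mul_assoc a b c]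
    simp only [List.forall_mem_cons]
    exact ⟨⟨z1, z2⟩, t k1, t k2, t k3, u k1, u k2, u k3, t k4, t k5, t k6, u k4, u k5, u k6, t k7, u k7, by simp⟩
  · rw [a2] at k2 k3 k4 k5 k6 k7
    have an : ∀ {x}, x * x = z → a * x * (a * x) = z → x * a = z * (a * x) := fun {x} h1 h2 => by
      have : a * (x * a) * x = a * (z * (a * x)) * x := by
        calc _ = z := by rw [← h2]; group
        _ = z * z * z := by rw [z2, one_mul]
        _ = z * (a * a) * (x * x) := by rw [a2, h1]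
        _ = _ := by rw [← mul_assoc a z, cz a]; group
      simpa using this
    refine absurd ?_ z1
    calc z = a * b * (c * a) * (b * c) := by rw [← k7.2]; group
    _ = a * (b * z * a) * c * (b * c) := by rw [an k3.2 k5.2]; group
    _ = a * (z * (b * a)) * c * (b * c) := by rw [cz b, mul_assoc z]
    _ = a * a * (b * c * (b * c)) := by rw [an k2.2 k4.2, ← mul_assoc z z, z2]; group
    _ = 1 := by rw [a2, k6.2, z2]

/-- the test for `e16l` -/
noncomputable def e16K (ap : ℕ → ℕ → ℕ) (D bs a b c d : List ℕ) : Bool :=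
  allA [a, b, c, d, a ++ b, a ++ c, a ++ d, b ++ c, b ++ d, c ++ d, a ++ b ++ c, a ++ b ++ d, a ++ (c ++ d),
    b ++ (c ++ d), a ++ b ++ (c ++ d)] fun t => band (wne ap D bs t []) (weq ap D bs (t ++ t) [])

theorem e16_of_cx {G X : Type*} [Group G] [MulAction G X] {n o : ℕ} {pt : ℕ → X} {ap : ℕ → ℕ → ℕ} {D bs : List ℕ}
    {γ : ℕ → G} (C : Cx G n pt ap o D γ bs) {a b c d : List ℕ} (h : e16K ap D bs a b c d = true) :
    ¬ PRankLE 2 3 G := by
  have k : ∀ t ∈ _, wd γ t ≠ 1 ∧ wd γ t * wd γ t = 1 := fun t ht =>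
    have ⟨h1, h2⟩ := band_eq_true.1 (allA_iff.1 h t ht)
    ⟨C.wne h1, by simpa [wd_append] using C.weq h2⟩
  refine e16l (a := wd γ a) (b := wd γ b) (c := wd γ c) (d := wd γ d) ?_
  simpa only [List.forall_mem_cons, wd_append, List.not_mem_nil, false_imp_iff, implies_true] using k

theorem sb_M22 : ¬ PRankLE 2 3 Spor.M22 :=
  let ⟨_, C⟩ := Mathieu.cx22 (D := [971286069426373603088660463164197504, 971141245259954310092018772658620736,
    961996611708926062682608334449314432, 971407534437494395434621727380376032]) (by decide +kernel) []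
  e16_of_cx C (a := [0]) (b := [1]) (c := [2]) (d := [3, 2, 3, 3]) (by decide +kernel)

theorem sb_js {X : Type*} [Group X] {γ : ℕ → X} (I : T2.IsoW T2.J.h0.gam γ) : ¬ PRankLE 2 3 X := by
  have k : ∀ t : W, T2.J.h0.eval (.and (.not (.one t)) (.one (.mul t t))) = true → t.ev γ ≠ 1 ∧ t.ev γ * t.ev γ = 1 :=
    fun t e => T2.J.h0_ok.transfer I e
  let a : W := .l 3
  let b : W := .mul (.mul (.l 2) (.l 1)) (.l 2)
  let c : W := .mul (.mul (.l 4) (.l 3)) (.l 5)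
  let d : W := .mul (.mul (.l 1) b) (.l 1)
  refine e16l (a := a.ev γ) (b := b.ev γ) (c := c.ev γ) (d := d.ev γ) ?_
  simp only [List.forall_mem_cons]
  exact ⟨k a (by decide +kernel), k b (by decide +kernel), k c (by decide +kernel), k d (by decide +kernel),
    k (.mul a b) (by decide +kernel), k (.mul a c) (by decide +kernel), k (.mul a d) (by decide +kernel),
    k (.mul b c) (by decide +kernel), k (.mul b d) (by decide +kernel), k (.mul c d) (by decide +kernel),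
    k (.mul (.mul a b) c) (by decide +kernel), k (.mul (.mul a b) d) (by decide +kernel),
    k (.mul a (.mul c d)) (by decide +kernel), k (.mul b (.mul c d)) (by decide +kernel),
    k (.mul (.mul a b) (.mul c d)) (by decide +kernel), by simp⟩

/-- `V₄ × V₄ ≤ A₈ ≤ Aₙ`. -/
theorem sb_alt {n : ℕ} (h : 8 ≤ n) : ¬ PRankLE 2 3 (alternatingGroup (Fin n)) := by
  obtain ⟨f, i⟩ := sb_emb h
  refine sb_map ?_ f i
  open Equiv in
  refine e16l (a := ⟨swap 0 1 * swap 2 3, by simp [Perm.mem_alternatingGroup]⟩)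
    (b := ⟨swap 0 2 * swap 1 3, by simp [Perm.mem_alternatingGroup]⟩)
    (c := ⟨swap 4 5 * swap 6 7, by simp [Perm.mem_alternatingGroup]⟩)
    (d := ⟨swap 4 6 * swap 5 7, by simp [Perm.mem_alternatingGroup]⟩) ?_
  simp only [List.forall_mem_cons, ne_eq, Subtype.ext_iff, coe_mul, coe_one]
  refine ⟨?_, ?_, ?_, ?_, ?_, ?_, ?_, ?_, ?_, ?_, ?_, ?_, ?_, ?_, ?_, by simp⟩ <;> decide +kernel

/-- Search the library for models / known subgroups (`2⁴ : A₆ ≤ M₂₂ ≤ M₂₃`, `L₃(4) ≤ M₂₂`, Sylow 2-subgroups of type `M₂₂`,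
`J₂`; polycyclic presentations with `E₁₆`; e.g. Lib/H4, Lib/GH, Lib/QJ, Lib/Spor*, `IsM22`, `IsJ2` …). -/
theorem sb_m22 (h : Spor.IsoM22 G) : ¬ PRankLE 2 3 G := by
  exact fun r => sb_M22 (rank_congr r h.some.symm)

theorem sb_m23 (h : Spor.IsoM23 G) : ¬ PRankLE 2 3 G := by
  exact fun r => sb_map sb_M22 (inclusion (inf_le_left : Spor.M22 ≤ Spor.M23)) (inclusion_injective _)
    (rank_congr r h.some.symm)

theorem sb_j2 (h : Spor.IsoJ2 G) : ¬ PRankLE 2 3 G := by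
  obtain ⟨_, _, _, _, C⟩ := Mod.J2.hasCx h [([1, 0, 0, 0, 1, 0, 0, 1], 1),
    ([0, 1, 0, 0, 1, 0, 0, 1, 0, 0, 1, 0, 0, 1, 0], 1), ([1, 0, 1, 0, 0, 1, 0, 1, 0, 0, 0, 1, 0, 0, 0, 1, 0, 1, 0, 0], 1),
    ([0, 1, 0, 1, 0, 1, 0, 0, 1, 0, 0, 1, 0, 1, 0, 0, 0], 1)]
  exact e16_of_cx C (a := [2]) (b := [3]) (c := [4]) (d := [5, 4, 5, 5])
    (of_bldK (k := fun D => e16K (Calc.get 7) D Mod.J2.bs [2] [3] [4] [5, 4, 5, 5]) (by decide +kernel))

theorem sb_j3 (h : Spor.IsoJ3 G) : ¬ PRankLE 2 3 G := by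
  obtain ⟨F, _, _, ω, hF, hω, ⟨e⟩⟩ := h
  obtain ⟨γ, J, -⟩ := T2.J.exists_js_j3 hF ω hω
  exact fun r => sb_js J.jh.iso (rank_congr r e.symm)

theorem sb_mcl (h : Spor.IsoMcL G) : ¬ PRankLE 2 3 G := by
  obtain ⟨-, t, -, c⟩ := Agent.S2132.result
  exact fun r => sb_map (sb_cover c (sb8_alt le_rfl)) (Subgroup.subtype _) Subtype.val_injective
    (rank_congr r h.some.symm)

set_option maxRecDepth 100000 in
theorem sb_ly (h : Spor.IsoLy G) : ¬ PRankLE 2 3 G := by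
  obtain ⟨ρ, k⟩ := Ly.exists_lift Ly.relsM
  have := Nat.finite_of_card_ne_zero (Agent.S1702.result.2.trans_ne (by decide))
  obtain ⟨e⟩ : Nonempty (Spor.Ly ≃* Ly.GM) := ⟨.ofBijective ρ ((MonoidHom.range_eq_top.1
    (Ly.topM _ fun c hc => ⟨_, k c hc⟩)).bijective_of_nat_card_le (Agent.S1702.result.2.trans Ly.isLy_GM.2.symm).le)⟩
  obtain ⟨t, ht⟩ : ∃ t : Ly.GM, IsNonsplitDoubleCover (centralizer {t}) (alternatingGroup (Fin 11)) :=
    ⟨_, Ly.doubleT.2⟩
  exact fun r => sb_map (sb_cover ht (sb8_alt (by norm_num))) (Subgroup.subtype _) Subtype.val_injective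
    (rank_congr r (h.some.trans e).symm)

end Cfsg.Lib.R3
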